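import Groth.Agent.DQCohEquivLib.Main
import Groth.Agent.QCohGenLib.Main
import Groth.Agent.CechShLib.Rpush
import Groth.Agent.CohCmpLib.Cosyz
import Groth.Agent.RpushLib.Comp
import Groth.Agent.DerLib.KInjEnough

/-!
# `D(QCoh)` and derived direct images
-/

set_option autoImplicit false
set_option linter.style.haveILetI false
set_option backward.isDefEq.respectTransparency false
set_option backward.isDefEq.respectTransparency.types false
set_option maxHeartbeats 1000000

universe u

open CategoryTheory CategoryTheory.Limits AlgebraicGeometry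

attribute [local instance] HasDerivedCategory.standard

namespace Groth.Agent.DQCohPushLib

open DQCohEquivLib (QC)

variable {X Y : Scheme.{u}}

theorem isGrothendieckAbelian_QC (X : Scheme.{u}) :
    IsGrothendieckAbelian.{u} (QC X).FullSubcategory := by
  haveI : (QC X).IsClosedUnderIsomorphisms := ⟨fun e h => @QCohLib.isQCoh_of_iso _ _ _ e h⟩
  have hcol : ∀ (J : Type u) [SmallCategory J], (QC X).IsClosedUnderColimitsOfShape J := fun J _ =>
    ObjectProperty.IsClosedUnderColimitsOfShape.mk' (by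
      rintro M ⟨F, hF⟩
      exact QCohLib.isQCoh_colimit F hF)
  obtain ⟨T, g, hg⟩ : ∃ (T : Type u) (g : T → (QC X).FullSubcategory),
      (ObjectProperty.ofObj g).IsSeparating := QCohGenLib.exists_separating X
  haveI := hcol
  haveI : HasColimitsOfSize.{u, u} (QC X).FullSubcategory := ⟨fun J _ => inferInstance⟩
  haveI : PreservesColimitsOfSize.{u, u} (QC X).ι :=
    ⟨fun {J} _ => ⟨fun {K} => preservesColimit_of_createsColimit_and_hasColimit K (QC X).ι⟩⟩
  haveI := InjModLib.isGrothendieckAbelian_modules (X := X)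
  haveI : ∀ (J : Type u) [SmallCategory J] [IsFiltered J], HasExactColimitsOfShape J (QC X).FullSubcategory :=
    fun J _ _ => HasExactColimitsOfShape.domain_of_functor J (QC X).ι
  haveI : HasFilteredColimitsOfSize.{u, u} (QC X).FullSubcategory := ⟨fun J _ _ => inferInstance⟩
  haveI : AB5OfSize.{u, u} (QC X).FullSubcategory := ⟨fun J _ _ => inferInstance⟩
  haveI : HasSeparator (QC X).FullSubcategory := ⟨⟨∐ g, (isSeparator_sigma g).2 hg⟩⟩
  exact {}

theorem isAffineHom_diagonal (hdY : ∀ U V : Y.Opens, IsAffineOpen U → IsAffineOpen V → IsAffineOpen (U ⊓ V)) :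
    IsAffineHom (pullback.diagonal (terminal.from Y)) :=
  isAffineHom_diagonal_iff.2 fun _ _ V₁ _ V₂ _ h₁ h₂ => hdY V₁ V₂ h₁ h₂

/-- A family of maps jointly monic on a cover gives a monomorphism into the sum. -/
theorem mono_lift {m : ℕ} (V : Fin m → X.Opens) (hcov : (⨆ i, V i) = ⊤)
    (I : (QC X).FullSubcategory) (P : Fin m → (QC X).FullSubcategory) (a : ∀ i, I ⟶ P i)
    [HasBiproduct P]
    (ha : ∀ i, Mono ((Scheme.Modules.restrictFunctor (V i).ι).map (a i).hom)) :
    Mono (biproduct.lift a) := by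
  refine (QC X).ι.mono_of_mono_map ?_
  refine CohCmpLib.mono_of_restrict _ V hcov fun i => ?_
  have h : (Scheme.Modules.restrictFunctor (V i).ι).map ((QC X).ι.map (biproduct.lift a)) ≫
      (Scheme.Modules.restrictFunctor (V i).ι).map ((QC X).ι.map (biproduct.π P i)) =
        (Scheme.Modules.restrictFunctor (V i).ι).map (a i).hom := by
    rw [← Functor.map_comp, ← Functor.map_comp, biproduct.lift_π]
    rfl
  haveI := ha i
  exact mono_of_mono_fac h

/-- A retract of a finite family of zero objects is zero. -/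
theorem isZero_of_decomp {C D : Type*} [Category C] [Category D] [Preadditive C] [Preadditive D]
    (F : C ⥤ D) [F.Additive] {I : C} {m : ℕ} (P : Fin m → C) (a : ∀ i, I ⟶ P i) (b : ∀ i, P i ⟶ I)
    (h : ∑ i, a i ≫ b i = 𝟙 I) (hz : ∀ i, IsZero (F.obj (P i))) : IsZero (F.obj I) := by
  rw [IsZero.iff_id_eq_zero, ← F.map_id, ← h, F.map_sum]
  refine Finset.sum_eq_zero fun i _ => ?_
  rw [F.map_comp, (hz i).eq_of_tgt (F.map (a i)) 0, zero_comp]

/-- Injective quasi-coherent modules are acyclic for direct images. -/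
theorem isZero_rpush_injective [CompactSpace X]
    (hdX : ∀ U V : X.Opens, IsAffineOpen U → IsAffineOpen V → IsAffineOpen (U ⊓ V))
    (hdY : ∀ U V : Y.Opens, IsAffineOpen U → IsAffineOpen V → IsAffineOpen (U ⊓ V))
    (f : X ⟶ Y) [HasInjectiveResolutions X.Modules] (I : (QC X).FullSubcategory) [Injective I]
    (n : ℕ) (hn : 0 < n) : IsZero ((Coh.Rpush f n).obj I.obj) := by
  classical
  haveI := isAffineHom_diagonal hdY
  obtain ⟨s, hs⟩ := isCompact_univ.elim_finite_subcover (fun V : X.affineOpens => (V.1 : Set X))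
    (fun V => V.1.isOpen) (fun p _ => by
      obtain ⟨V, hV, hp, -⟩ := TopologicalSpace.Opens.isBasis_iff_nbhd.mp X.isBasis_affineOpens (U := ⊤) (x := p) trivial
      exact Set.mem_iUnion.mpr ⟨⟨V, hV⟩, hp⟩)
  obtain ⟨m, ⟨e⟩⟩ := Finite.exists_equiv_fin s
  let V : Fin m → X.Opens := fun i => (e.symm i).1.1
  have hV : ∀ i, IsAffineOpen (V i) := fun i => (e.symm i).1.2
  have hcov : (⨆ i, V i) = ⊤ := eq_top_iff.2 fun p _ => by
    obtain ⟨W, hW, hp⟩ := Set.mem_iUnion₂.mp (hs (Set.mem_univ p))
    exact TopologicalSpace.Opens.mem_iSup.2 ⟨e ⟨W, hW⟩, by simpa [V] using hp⟩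
  haveI : Coh.IsQCoh I.obj := I.property
  have hres : ∀ i, Coh.IsQCoh ((Scheme.Modules.restrictFunctor (V i).ι).obj I.obj) := fun i =>
    @QCohLib.isQCoh_of_iso _ _ _ ((Scheme.Modules.restrictFunctorIsoPullback (V i).ι).app I.obj).symm
      (KFlatLib.isQCoh_pullback (V i).ι I.obj)
  have haff : ∀ i, IsAffineHom (V i).ι := fun i => DQCohEquivLib.isAffineHom_ι hdX (hV i)
  let P : Fin m → (QC X).FullSubcategory := fun i =>
    ⟨(Scheme.Modules.pushforward (V i).ι).obj ((Scheme.Modules.restrictFunctor (V i).ι).obj I.obj),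
      haveI := hres i; haveI := haff i; QCohLib.isQCoh_pushforward (V i).ι _⟩
  let a : ∀ i, I ⟶ P i := fun i =>
    (QC X).homMk ((Scheme.Modules.restrictAdjunction (V i).ι).unit.app I.obj)
  haveI : HasFiniteBiproducts (QC X).FullSubcategory := Abelian.hasFiniteBiproducts
  let l : I ⟶ ⨁ P := biproduct.lift a
  haveI : Mono l := mono_lift V hcov I P a fun i =>
    (SplitMono.mk ((Scheme.Modules.restrictAdjunction (V i).ι).counit.app _)
      ((Scheme.Modules.restrictAdjunction (V i).ι).left_triangle_components I.obj)).mono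
  let r : ⨁ P ⟶ I := Injective.factorThru (𝟙 I) l
  have hlr : ∑ i, a i ≫ (biproduct.ι P i ≫ r) = 𝟙 I :=
    calc ∑ i, a i ≫ (biproduct.ι P i ≫ r) = l ≫ r := by
          rw [show l = ∑ i, a i ≫ biproduct.ι P i from biproduct.lift_eq, Preadditive.sum_comp]
          simp
      _ = 𝟙 I := Injective.comp_factorThru _ _
  haveI : (Coh.Rpush f n).Additive := by unfold Coh.Rpush; infer_instance
  have hz : ∀ i, IsZero ((Coh.Rpush f n).obj (P i).obj) := fun i => by
    haveI : IsAffine (V i : Scheme.{u}) := hV i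
    haveI := hres i
    haveI := haff i
    haveI : EnoughInjectives (V i : Scheme.{u}).Modules := IsGrothendieckAbelian.enoughInjectives.{u}
    haveI : IsAffineHom ((V i).ι ≫ f) := CechShLib.isAffineHom_of_affine _
    obtain ⟨ei⟩ := RpushLib.nonempty_rpush_push_iso (V i).ι f
      ((Scheme.Modules.restrictFunctor (V i).ι).obj I.obj) n
    exact (TildeDerLib.isZero_Rpush_affine ((V i).ι ≫ f) _ n hn).of_iso ei
  exact isZero_of_decomp ((QC X).ι ⋙ Coh.Rpush f n) P a _ hlr hz

/-- The square of derived direct images, for acyclic injectives. -/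
theorem nonempty_iso_of_acyclic
    (f : X ⟶ Y) [QuasiCompact f] [QuasiSeparated f] [DCoh.HasRpush f]
    (hac : ∀ [HasInjectiveResolutions X.Modules] (I : (QC X).FullSubcategory) [Injective I] (n : ℕ), 0 < n →
      IsZero ((Coh.Rpush f n).obj I.obj))
    (PF : (QC X).FullSubcategory ⥤ (QC Y).FullSubcategory) [PF.Additive]
    (e : PF ⋙ (QC Y).ι ≅ (QC X).ι ⋙ Scheme.Modules.pushforward f)
    [(PF.mapHomotopyCategory (ComplexShape.up ℤ) ⋙ DerivedCategory.Qh).HasRightDerivedFunctor
      (HomotopyCategory.quasiIso (QC X).FullSubcategory (ComplexShape.up ℤ))] :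
    Nonempty ((PF.mapHomotopyCategory (ComplexShape.up ℤ) ⋙ DerivedCategory.Qh).totalRightDerived
        DerivedCategory.Qh (HomotopyCategory.quasiIso (QC X).FullSubcategory (ComplexShape.up ℤ)) ⋙
          (QC Y).ι.mapDerivedCategory ≅ (QC X).ι.mapDerivedCategory ⋙ DCoh.Rpush f) := by
  haveI := isGrothendieckAbelian_QC X
  have hA := DerLib.KInjDerived.enoughKInj (QC X).FullSubcategory
  let c := ComplexShape.up ℤ
  let WX := HomotopyCategory.quasiIso (QC X).FullSubcategory c
  let F₀ := (PF.mapHomotopyCategory c ⋙ DerivedCategory.Qh) ⋙ (QC Y).ι.mapDerivedCategory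
  let Φ := (PF.mapHomotopyCategory c ⋙ DerivedCategory.Qh).totalRightDerived DerivedCategory.Qh WX
  let αΦ := (PF.mapHomotopyCategory c ⋙ DerivedCategory.Qh).totalRightDerivedUnit DerivedCategory.Qh WX
  let γ : F₀ ⟶ DerivedCategory.Qh ⋙ (Φ ⋙ (QC Y).ι.mapDerivedCategory) :=
    Functor.whiskerRight αΦ _ ≫ (Functor.associator _ _ _).hom
  let εK : (PF.mapHomotopyCategory c ⋙ DerivedCategory.Qh) ⋙ (QC Y).ι.mapDerivedCategory ≅
      (QC X).ι.mapHomotopyCategory c ⋙ DCoh.pushKh f :=
    Functor.associator _ _ _ ≪≫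
      Functor.isoWhiskerLeft _ (Functor.mapDerivedCategoryFactorsh (QC Y).ι) ≪≫
      (Functor.associator _ _ _).symm ≪≫
      Functor.isoWhiskerRight (Functor.mapHomotopyCategoryCompIso e c ≪≫
        (Functor.mapHomotopyCategoryCompIso
          (Iso.refl ((QC X).ι ⋙ Scheme.Modules.pushforward f)) c).symm) DerivedCategory.Qh ≪≫
      Functor.associator _ _ _
  let δ : F₀ ⟶ DerivedCategory.Qh ⋙ ((QC X).ι.mapDerivedCategory ⋙ DCoh.Rpush f) :=
    εK.hom ≫ Functor.whiskerLeft _ (QRlimLib.rpushUnit f) ≫ (Functor.associator _ _ _).inv ≫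
      Functor.whiskerRight (Functor.mapDerivedCategoryFactorsh (QC X).ι).inv _ ≫
      (Functor.associator _ _ _).hom
  haveI : EnoughInjectives X.Modules := IsGrothendieckAbelian.enoughInjectives.{u}
  haveI : (Φ ⋙ (QC Y).ι.mapDerivedCategory).IsRightDerivedFunctor γ WX :=
    DerLib.KInjDerived.isRightDerivedFunctor_of_isIso _ _ hA fun I _ => by
      haveI := DerLib.KInjDerived.isIso_app Φ αΦ hA I
      change IsIso ((QC Y).ι.mapDerivedCategory.map (αΦ.app _) ≫ 𝟙 _)
      infer_instance
  haveI : ((QC X).ι.mapDerivedCategory ⋙ DCoh.Rpush f).IsRightDerivedFunctor δ WX :=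
    DerLib.KInjDerived.isRightDerivedFunctor_of_isIso _ _ hA fun I _ => by
      obtain ⟨J, φ, hJ, hφ, hinj⟩ := DerLib.KInjRes.exists_resolution I
      haveI := hJ
      let q := HomotopyCategory.quotient (QC X).FullSubcategory c
      haveI : IsIso (DerivedCategory.Qh.map (q.map φ)) :=
        Localization.inverts DerivedCategory.Qh WX _ ((HomotopyCategory.quotient_map_mem_quasiIso_iff φ).2 hφ.2)
      haveI : IsIso (q.map φ) := by
        obtain ⟨ψ, hψ⟩ := (CochainComplex.IsKInjective.Qh_map_bijective (q.obj J) I).2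
          (inv (DerivedCategory.Qh.map (q.map φ)))
        exact ⟨ψ,
          (CochainComplex.IsKInjective.Qh_map_bijective (q.obj I) I).1 (by simp [hψ, q]),
          (CochainComplex.IsKInjective.Qh_map_bijective (q.obj J) J).1 (by simp [hψ, q])⟩
      suffices h : IsIso (δ.app (q.obj J)) by
        haveI := h
        have hn := δ.naturality (q.map φ)
        haveI : IsIso (δ.app (q.obj I) ≫
            (DerivedCategory.Qh ⋙ ((QC X).ι.mapDerivedCategory ⋙ DCoh.Rpush f)).map (q.map φ)) := by
          rw [← hn]; infer_instance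
        exact IsIso.of_isIso_comp_right (δ.app (q.obj I))
          ((DerivedCategory.Qh ⋙ ((QC X).ι.mapDerivedCategory ⋙ DCoh.Rpush f)).map (q.map φ))
      haveI : IsIso ((QRlimLib.rpushUnit f).app (((QC X).ι.mapHomotopyCategory c).obj (q.obj J))) :=
        QRlimLib.isIso_rpushUnit f (((QC X).ι.mapHomologicalComplex c).obj J)
          (fun n => (J.X n).property) fun n i hi =>
            haveI := hinj n
            hac (J.X n) i hi
      change IsIso (εK.hom.app _ ≫ (QRlimLib.rpushUnit f).app _ ≫ 𝟙 _ ≫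
        (DCoh.Rpush f).map ((Functor.mapDerivedCategoryFactorsh (QC X).ι).inv.app _) ≫ 𝟙 _)
      infer_instance
  exact ⟨Functor.rightDerivedUnique (Φ ⋙ (QC Y).ι.mapDerivedCategory)
    ((QC X).ι.mapDerivedCategory ⋙ DCoh.Rpush f) γ δ WX⟩

/-- The square of derived direct images. -/
theorem nonempty_iso [CompactSpace X]
    (hdX : ∀ U V : X.Opens, IsAffineOpen U → IsAffineOpen V → IsAffineOpen (U ⊓ V))
    (hdY : ∀ U V : Y.Opens, IsAffineOpen U → IsAffineOpen V → IsAffineOpen (U ⊓ V))
    (f : X ⟶ Y) [DCoh.HasRpush f]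
    (PF : (QC X).FullSubcategory ⥤ (QC Y).FullSubcategory) [PF.Additive]
    (e : PF ⋙ (QC Y).ι ≅ (QC X).ι ⋙ Scheme.Modules.pushforward f)
    [(PF.mapHomotopyCategory (ComplexShape.up ℤ) ⋙ DerivedCategory.Qh).HasRightDerivedFunctor
      (HomotopyCategory.quasiIso (QC X).FullSubcategory (ComplexShape.up ℤ))] :
    Nonempty ((PF.mapHomotopyCategory (ComplexShape.up ℤ) ⋙ DerivedCategory.Qh).totalRightDerived
        DerivedCategory.Qh (HomotopyCategory.quasiIso (QC X).FullSubcategory (ComplexShape.up ℤ)) ⋙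
          (QC Y).ι.mapDerivedCategory ≅ (QC X).ι.mapDerivedCategory ⋙ DCoh.Rpush f) := by
  haveI := isAffineHom_diagonal hdX
  haveI := isAffineHom_diagonal hdY
  haveI : QuasiSeparatedSpace X := quasiSeparatedSpace_iff_forall_affineOpens.2 fun U V =>
    (hdX U.1 V.1 U.2 V.2).isCompact
  haveI : QuasiSeparatedSpace Y := quasiSeparatedSpace_iff_forall_affineOpens.2 fun U V =>
    (hdY U.1 V.1 U.2 V.2).isCompact
  haveI : QuasiCompact f := quasiCompact_of_compactSpace f
  haveI : QuasiSeparated f := inferInstance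
  exact nonempty_iso_of_acyclic f (fun I _ n hn => isZero_rpush_injective hdX hdY f I n hn) PF e

end Groth.Agent.DQCohPushLib
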