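import Groth.Agent.DQCohEquivLib.KInj
import Groth.Agent.DQCohPushLib.Main
import Groth.Agent.InjModLib.Envelope

/-!
# `D(QCoh(X)) ≅ D_QCoh(X)` for Noetherian schemes
-/

set_option autoImplicit false
set_option linter.style.haveILetI false
set_option backward.isDefEq.respectTransparency false
set_option backward.isDefEq.respectTransparency.types false
set_option maxHeartbeats 1000000

universe u

open CategoryTheory CategoryTheory.Limits AlgebraicGeometry

attribute [local instance] HasDerivedCategory.standard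

namespace Groth.Agent.DQCohPushLib

open DQCohEquivLib (QC Good GoodOpen)

variable {X Y : Scheme.{u}}

theorem isZero_rpush_injective_noeth [IsLocallyNoetherian X] (f : X ⟶ Y) [HasInjectiveResolutions X.Modules]
    (I : (QC X).FullSubcategory) [hI : Injective I] (n : ℕ) (hn : 0 < n) :
    IsZero ((Coh.Rpush f n).obj I.obj) := by
  haveI := InjModLib.injective_of_injective_qcoh I hI
  obtain ⟨m, rfl⟩ := Nat.exists_eq_succ_of_ne_zero hn.ne'
  exact Functor.isZero_rightDerived_obj_injective_succ (Scheme.Modules.pushforward f) m I.obj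

theorem inf_affine_of_le {V W : X.Opens} (hV : IsAffineOpen V) (hWV : W ≤ V)
    (U U' : (W : Scheme.{u}).Opens) (hU : IsAffineOpen U) (hU' : IsAffineOpen U') : IsAffineOpen (U ⊓ U') := by
  haveI : IsAffine (V : Scheme.{u}) := hV
  let e := X.homOfLE hWV
  rw [← e.isAffineOpen_iff_of_isOpenImmersion]
  have he : e ''ᵁ (U ⊓ U') = e ''ᵁ U ⊓ e ''ᵁ U' :=
    TopologicalSpace.Opens.ext (Set.image_inter e.isOpenEmbedding.injective)
  rw [he]
  exact (hU.image_of_isOpenImmersion e).inf (hU'.image_of_isOpenImmersion e)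

/-- Direct images from an open inside an affine are good. -/
theorem goodOpen_of_le [IsNoetherian X] {V W : X.Opens} (hV : IsAffineOpen V) (hWV : W ≤ V) :
    GoodOpen W := by
  intro L hL
  haveI := DCohRestrLib.hasRpush W.ι
  haveI : CompactSpace (W : Scheme.{u}) := isCompact_iff_compactSpace.mp (TopologicalSpace.NoetherianSpace.isCompact (W : Set X))
  obtain ⟨hF₁, hF₂, hess⟩ := DQCohEquivLib.main (X := (W : Scheme.{u})) (inf_affine_of_le hV hWV)
  haveI := hF₁
  haveI := hF₂
  obtain ⟨B, ⟨eB⟩⟩ := (hess L).1 hL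
  haveI := isGrothendieckAbelian_QC (W : Scheme.{u})
  obtain ⟨C, φ, hC, hφ, hinj⟩ := DerLib.KInjRes.exists_resolution (DerivedCategory.Q.objPreimage B)
  haveI := hC
  haveI : IsIso (DerivedCategory.Q.map φ) :=
    Localization.inverts DerivedCategory.Q (HomologicalComplex.quasiIso _ (ComplexShape.up ℤ)) φ hφ.2
  let eC : DerivedCategory.Q.obj C ≅ B :=
    (asIso (DerivedCategory.Q.map φ)).symm ≪≫ DerivedCategory.Q.objObjPreimageIso B
  let j := W.ι
  haveI : QuasiCompact j := quasiCompact_of_compactSpace j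
  haveI : QuasiSeparated j := inferInstance
  let g' : (QC X).FullSubcategory ⥤ (QC (W : Scheme.{u})).FullSubcategory :=
    ObjectProperty.lift _ ((QC X).ι ⋙ Scheme.Modules.restrictFunctor j) fun M =>
      haveI : Coh.IsQCoh M.obj := M.property
      @QCohLib.isQCoh_of_iso _ _ _ ((Scheme.Modules.restrictFunctorIsoPullback j).app M.obj).symm
        (KFlatLib.isQCoh_pullback j M.obj)
  let p' : (QC (W : Scheme.{u})).FullSubcategory ⥤ (QC X).FullSubcategory :=
    ObjectProperty.lift _ ((QC (W : Scheme.{u})).ι ⋙ Scheme.Modules.pushforward j) fun M =>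
      haveI : Coh.IsQCoh M.obj := M.property
      QCohLib.isQCoh_pushforward j M.obj
  let adj := Scheme.Modules.restrictAdjunction j
  let adj' : g' ⊣ p' := adj.restrictFullyFaithful
    (ObjectProperty.fullyFaithfulι (QC X)) (ObjectProperty.fullyFaithfulι (QC (W : Scheme.{u}))) (Iso.refl _) (Iso.refl _)
  haveI : g'.Additive := ⟨fun {A B f g} => ObjectProperty.hom_ext _ ((Scheme.Modules.restrictFunctor j).map_add)⟩
  haveI : p'.Additive := adj'.right_adjoint_additive
  obtain ⟨hg₁, hg₂⟩ := DQCohEquivLib.exact_of_comp g' (QC (W : Scheme.{u})).ι fun S hS =>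
    (hS.map_of_exact (QC X).ι).map_of_exact (Scheme.Modules.restrictFunctor j)
  haveI := hg₁; haveI := hg₂
  haveI : EnoughInjectives (W : Scheme.{u}).Modules := IsGrothendieckAbelian.enoughInjectives.{u}
  obtain ⟨G, ⟨eG⟩, hG⟩ := DQCohEquivLib.exists_push_core (iX := (QC X).ι) (iU := (QC (W : Scheme.{u})).ι)
    adj adj' (Iso.refl _) (Iso.refl _)
    (fun M => by
      have h := Adjunction.map_restrictFullyFaithful_counit_app adj (ObjectProperty.fullyFaithfulι (QC X))
        (ObjectProperty.fullyFaithfulι (QC (W : Scheme.{u}))) (L := g') (R := p') (Iso.refl _) (Iso.refl _) M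
      refine Eq.trans ?_ (congrArg (_ ≫ ·) h).symm
      simp
      erw [Category.id_comp, Category.id_comp, CategoryTheory.Functor.map_id, Category.id_comp])
    (DCoh.Rpush j) (QRlimLib.rpushUnit j) KFlatLib.enoughKInj_modules C
    (QRlimLib.isIso_rpushUnit j _ (fun n => (C.X n).property) fun n i hi =>
      haveI := hinj n
      isZero_rpush_injective_noeth j (C.X n) i hi)
    (DQCohEquivLib.bijective_counit adj' C)
  exact ⟨G, ⟨eG ≪≫ (DCoh.Rpush j).mapIso ((QC (W : Scheme.{u})).ι.mapDerivedCategory.mapIso eC ≪≫ eB)⟩, hG⟩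

theorem goodOpen_sup_finset [IsNoetherian X] :
    ∀ (n : ℕ) (s : Finset X.affineOpens), s.card ≤ n → GoodOpen (s.sup fun V => V.1) := by
  classical
  intro n
  induction n with
  | zero =>
    intro s hs
    obtain rfl : s = ∅ := Finset.card_eq_zero.1 (Nat.le_zero.1 hs)
    rw [Finset.sup_empty]
    exact goodOpen_of_le (isAffineOpen_bot X) le_rfl
  | succ n ih =>
    intro s hs
    rcases s.eq_empty_or_nonempty with rfl | ⟨V, hV⟩
    · exact ih ∅ (Nat.zero_le _)
    have hc : (s.erase V).card ≤ n := by rw [Finset.card_erase_of_mem hV]; omega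
    rw [← Finset.insert_erase hV, Finset.sup_insert]
    exact DQCohEquivLib.goodOpen_sup (goodOpen_of_le V.2 le_rfl) (ih _ hc) (goodOpen_of_le V.2 inf_le_left)

theorem main_noeth [IsNoetherian X] :
    (QC X).ι.mapDerivedCategory.Full ∧ (QC X).ι.mapDerivedCategory.Faithful ∧
      ∀ K : DCoh.D X, DCoh.IsQCohD K ↔ ∃ M, Nonempty ((QC X).ι.mapDerivedCategory.obj M ≅ K) :=
  DQCohEquivLib.main_of_goodOpen goodOpen_sup_finset

end Groth.Agent.DQCohPushLib
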